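import Groth.Agent.Lib.DecSh20.TorsionFree
import Groth.Agent.Lib.AlgSp.CodimOneQF

/-!
# Torsion free modules on reduced schemes and their generic germs
-/

set_option autoImplicit false
set_option linter.all false
set_option backward.isDefEq.respectTransparency false

universe u

open CategoryTheory CategoryTheory.Limits AlgebraicGeometry Opposite TopologicalSpace

noncomputable section

namespace GrothLib.TFCurve11

variable {X : Scheme.{u}}

theorem isField_stalk_of_maximal [AlgebraicGeometry.IsReduced X] (w : X) (hw : ∀ z, z ⤳ w → z = w) :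
    IsField (X.presheaf.stalk w) := by
  rw [IsLocalRing.isField_iff_maximalIdeal_eq]
  refine le_bot_iff.1 fun a ha => ?_
  have hn : a ∈ nilradical (X.presheaf.stalk w) := by
    rw [nilradical_eq_sInf, Ideal.mem_sInf]
    intro p hp
    haveI : p.IsPrime := hp
    let q : Spec (X.presheaf.stalk w) := ⟨p, hp⟩
    have h1 : (X.fromSpecStalk w).base q = w :=
      hw _ ((Scheme.range_fromSpecStalk (X := X) (x := w)).le ⟨q, rfl⟩)
    have h2 : q = IsLocalRing.closedPoint (X.presheaf.stalk w) :=
      (X.fromSpecStalk w).isEmbedding.injective (h1.trans Scheme.fromSpecStalk_closedPoint.symm)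
    have h3 : p = IsLocalRing.maximalIdeal _ := congrArg PrimeSpectrum.asIdeal h2
    rwa [h3]
  rw [nilradical_eq_zero] at hn
  exact hn

/-- A section of a torsion free module vanishing at the maximal points vanishes. -/
theorem eq_zero_of_maximal_germ [IsLocallyNoetherian X] [AlgebraicGeometry.IsReduced X] {F : X.Modules}
    [F.IsQuasicoherent] (htF : TorSh.IsTorsionFree F) {W : X.Opens} (s : Γ(F, W))
    (h : ∀ (w : X) (hw : w ∈ W), (∀ z, z ⤳ w → z = w) → F.presheaf.germ W w hw s = 0) : s = 0 :=
  GrothLib.WeakAss.eq_zero_of_germ s fun w hw hwa =>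
    h w hw fun z hz => GrothLib.DecSh20.eq_of_specializes_of_weakAss htF hwa hz

/-- A morphism into a torsion free module vanishing on a dense open vanishes. -/
theorem hom_eq_zero_of_restrict [IsLocallyNoetherian X] [AlgebraicGeometry.IsReduced X] {M N : X.Modules}
    [N.IsQuasicoherent] (htN : TorSh.IsTorsionFree N) (g : M ⟶ N) (U : X.Opens) (hU : Dense (U : Set X))
    (hg : (Scheme.Modules.restrictFunctor U.ι).map g = 0) : g = 0 := by
  refine Scheme.Modules.hom_ext _ _ fun W => AddCommGrpCat.ext fun s => ?_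
  refine eq_zero_of_maximal_germ htN _ fun w hw hmax => ?_
  have hwU : w ∈ U := GrothLib.AlgSp.mem_of_dense_open U.2 hU w hmax
  set V : (U : Scheme.{u}).Opens := U.ι ⁻¹ᵁ W
  have hle : U.ι ''ᵁ V ≤ W := U.ι.image_preimage_le W
  have hwV : w ∈ U.ι ''ᵁ V := ⟨⟨w, hwU⟩, hw, rfl⟩
  rw [← TopCat.Presheaf.germ_res_apply N.presheaf (homOfLE hle) w hwV]
  have h1 : g.app (U.ι ''ᵁ V) (M.presheaf.map (homOfLE hle).op s) = N.presheaf.map (homOfLE hle).op (g.app W s) :=
    ConcreteCategory.congr_hom (g.mapPresheaf.naturality (homOfLE hle).op) s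
  have h2 : g.app (U.ι ''ᵁ V) = 0 := congrArg (fun q => q.app V) hg
  rw [← h1, h2]
  exact map_zero _

end GrothLib.TFCurve11
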